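import Groth.Agent.FlatLocalDesc.Iso
import Groth.Agent.FpqcDescent.Affine

/-!
# Affineness descends along jointly surjective flat morphisms for quasi-compact quasi-separated morphisms
-/

set_option autoImplicit false

universe u

open CategoryTheory Limits AlgebraicGeometry

namespace Groth.Agent.FlatLocalDesc

variable {X Y : Scheme.{u}}

set_option backward.isDefEq.respectTransparency.types false in
theorem isAffineHom_fst_fromSpecStalk (f : X ⟶ Y) (h : FlatLocally (fun _ _ f => IsAffineHom f) f) (y : Y) :
    IsAffineHom (pullback.fst (Y.fromSpecStalk y) f) := by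
  obtain ⟨T, g, hgf, ⟨t, rfl⟩, hg⟩ := h y
  let a := Spec.map (g.stalkMap t)
  have : Flat a := by
    rw [HasRingHomProperty.Spec_iff (P := @Flat)]
    exact Flat.stalkMap g t
  have : Surjective a := by
    have hfl := Flat.stalkMap g t
    algebraize [(g.stalkMap t).hom]
    have : IsLocalHom (algebraMap (Y.presheaf.stalk (g.base t)) (T.presheaf.stalk t)) :=
      inferInstanceAs (IsLocalHom (g.stalkMap t).hom)
    have : Module.FaithfullyFlat (Y.presheaf.stalk (g.base t)) (T.presheaf.stalk t) :=
      Module.FaithfullyFlat.of_flat_of_isLocalHom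
    exact ⟨PrimeSpectrum.comap_surjective_of_faithfullyFlat⟩
  have key : IsAffineHom (pullback.snd f (a ≫ Y.fromSpecStalk _)) := by
    have e : a ≫ Y.fromSpecStalk _ = T.fromSpecStalk t ≫ g := Scheme.SpecMap_stalkMap_fromSpecStalk g
    rw [e, ← pullbackLeftPullbackSndIso_inv_snd_snd]
    have : IsAffineHom (pullback.snd (pullback.snd f g) (T.fromSpecStalk t)) :=
      MorphismProperty.pullback_snd (P := @IsAffineHom) _ _ hg
    infer_instance
  have h2 : IsAffineHom (pullback.snd f (Y.fromSpecStalk (g.base t))) := by
    refine MorphismProperty.of_pullback_snd_of_descendsAlong (P := @IsAffineHom)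
      (Q := (@Surjective ⊓ @Flat ⊓ @QuasiCompact : MorphismProperty Scheme.{u}))
      (f := pullback.snd f (Y.fromSpecStalk _)) (g := a) ⟨⟨inferInstance, inferInstance⟩, inferInstance⟩ ?_
    rw [← pullbackLeftPullbackSndIso_hom_snd]
    infer_instance
  rw [← pullbackSymmetry_hom_comp_snd]
  infer_instance

set_option backward.isDefEq.respectTransparency.types false in
theorem isAffine_of_flatLocally {R : CommRingCat.{u}} {Z : Scheme.{u}} (g : Z ⟶ Spec R) [QuasiCompact g]
    [QuasiSeparated g]
    (h : ∀ p : Spec R, ∃ (S : CommRingCat.{u}) (φ : R ⟶ S), Flat (Spec.map φ) ∧ p ∈ Set.range (Spec.map φ).base ∧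
      IsAffineHom (pullback.fst (Spec.map φ) g)) : IsAffine Z := by
  have : CompactSpace Z := (quasiCompact_iff_compactSpace g).mp ‹_›
  have : QuasiSeparatedSpace Z := quasiSeparatedSpace_of_quasiSeparated g
  let a := Z.toSpecΓ
  let b : Spec Γ(Z, ⊤) ⟶ Spec R := Spec.map ((Scheme.ΓSpecIso R).inv ≫ g.appTop)
  have hab : a ≫ b = g := by
    simp only [a, b, Spec.map_comp, ← Scheme.toSpecΓ_naturality_assoc]
    simp
  have : IsIso a := by
    refine isIso_of_flatLocally a fun z => ?_
    obtain ⟨S, φ, hφ, ⟨q, hq⟩, haff⟩ := h (b.base z)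
    refine ⟨pullback (Spec.map φ) b, pullback.snd _ _, inferInstance, ?_, ?_⟩
    · obtain ⟨w, -, hw⟩ := Scheme.Pullback.exists_preimage_pullback (f := Spec.map φ) (g := b) q z hq
      exact ⟨w, hw⟩
    have : IsAffine (pullback (Spec.map φ) g) := isAffine_of_isAffineHom (pullback.fst (Spec.map φ) g)
    let c : pullback (Spec.map φ) g ⟶ pullback (Spec.map φ) b :=
      pullback.lift (pullback.fst _ _) (pullback.snd _ _ ≫ a)
        (by rw [Category.assoc, hab, pullback.condition])
    have hP := isPushout_appTop_of_isPullback (IsPullback.of_hasPullback (Spec.map φ) b).flip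
    have hY : IsPushout g.appTop (Spec.map φ).appTop (pullback.snd (Spec.map φ) g).appTop
        (pullback.fst (Spec.map φ) g).appTop := by
      have hi := isIso_pushoutSection_of_isQuasiSeparated_of_flat_right
        (IsPullback.of_hasPullback (Spec.map φ) g).flip (US := ⊤) (UT := ⊤) (UX := ⊤) (UY := ⊤)
        (le_of_eq rfl) (le_of_eq rfl) (by simp) (isAffineOpen_top _) (isAffineOpen_top _)
        isCompact_univ isQuasiSeparated_univ
      have := (isIso_pushoutSection_iff ..).mp hi
      simp only [Scheme.Hom.appTop, Scheme.Hom.app_eq_appLE]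
      exact this
    have : IsIso a.appTop := by
      simp only [a, Scheme.toSpecΓ_appTop]
      infer_instance
    have hY' : IsPushout b.appTop (Spec.map φ).appTop
        (a.appTop ≫ (pullback.snd (Spec.map φ) g).appTop) (pullback.fst (Spec.map φ) g).appTop :=
      IsPushout.of_iso hY (Iso.refl _) (asIso a.appTop).symm (Iso.refl _) (Iso.refl _)
        (by simp only [Iso.refl_hom, Category.id_comp, Iso.symm_hom, asIso_inv, IsIso.comp_inv_eq]
            rw [← Scheme.Hom.comp_appTop, hab])
        (by simp) (by simp) (by simp)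
    have : IsIso c.appTop := by
      have : c.appTop = (hP.isoIsPushout _ _ hY').hom := by
        apply hP.hom_ext
        · rw [IsPushout.inl_isoIsPushout_hom, ← Scheme.Hom.comp_appTop, ← Scheme.Hom.comp_appTop,
            pullback.lift_snd]
        · rw [IsPushout.inr_isoIsPushout_hom, ← Scheme.Hom.comp_appTop, pullback.lift_fst]
      rw [this]
      infer_instance
    have : IsIso c := by
      have h := Scheme.isoSpec_hom_naturality c
      have : IsIso (c ≫ (Scheme.isoSpec (pullback (Spec.map φ) b)).hom) := by
        rw [← h]; infer_instance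
      exact IsIso.of_isIso_comp_right c (Scheme.isoSpec (pullback (Spec.map φ) b)).hom
    have hsq : IsPullback (pullback.snd (Spec.map φ) g) c a (pullback.snd (Spec.map φ) b) := by
      refine IsPullback.of_bot (h₂₁ := pullback.snd (Spec.map φ) b) ?_ (pullback.lift_snd _ _ _).symm
        (IsPullback.of_hasPullback (Spec.map φ) b).flip
      simp only [c, pullback.lift_fst, hab]
      exact (IsPullback.of_hasPullback (Spec.map φ) g).flip
    rw [MorphismProperty.isomorphisms.iff, ← hsq.isoPullback_inv_snd]
    infer_instance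
  exact .of_isIso a

set_option backward.isDefEq.respectTransparency.types false in
theorem isAffineHom_of_flatLocally (f : X ⟶ Y) [QuasiCompact f] [QuasiSeparated f]
    (h : FlatLocally (fun _ _ f => IsAffineHom f) f) : IsAffineHom f := by
  refine ⟨fun U hU => ?_⟩
  have haff : IsAffine (pullback hU.fromSpec f) := by
    refine isAffine_of_flatLocally (pullback.fst hU.fromSpec f) fun p => ?_
    have hy : hU.fromSpec.base p ∈ U := by
      have : hU.fromSpec.base p ∈ Set.range hU.fromSpec.base := ⟨p, rfl⟩
      rwa [IsAffineOpen.range_fromSpec] at this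
    let φ := Y.presheaf.germ U _ hy
    have he : Spec.map φ ≫ hU.fromSpec = Y.fromSpecStalk _ := hU.fromSpecStalk_eq_fromSpecStalk hy
    refine ⟨_, φ, ?_, ⟨IsLocalRing.closedPoint _, hU.fromSpec.isOpenEmbedding.injective ?_⟩, ?_⟩
    · rw [HasRingHomProperty.Spec_iff (P := @Flat)]
      let _ := φ.hom.toAlgebra
      have hloc : @IsLocalization _ _ (hU.primeIdealOf ⟨_, hy⟩).asIdeal.primeCompl _ _ φ.hom.toAlgebra :=
        hU.isLocalization_stalk ⟨_, hy⟩
      exact @IsLocalization.flat _ _ _ _ _ _ hloc
    · rw [← Scheme.Hom.comp_apply, he, Scheme.fromSpecStalk_closedPoint]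
    · have := isAffineHom_fst_fromSpecStalk f h (hU.fromSpec.base p)
      rw [← he] at this
      rw [← pullbackRightPullbackFstIso_hom_fst hU.fromSpec f (Spec.map φ)]
      infer_instance
  have e : f ⁻¹ᵁ U = (pullback.snd hU.fromSpec f).opensRange := by
    refine TopologicalSpace.Opens.ext ?_
    simp [Scheme.Hom.coe_opensRange, IsOpenImmersion.range_pullbackSnd, hU.opensRange_fromSpec]
  rw [e]
  exact isAffineOpen_opensRange _

end Groth.Agent.FlatLocalDesc
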