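import Mathlib

/-!
# Descent along jointly surjective flat morphisms without quasi-compactness
-/

set_option autoImplicit false

universe u

open CategoryTheory Limits AlgebraicGeometry

namespace Groth.Agent.FlatLocalDesc

variable {X Y : Scheme.{u}}

/-- Every point of the target lies in the image of a flat morphism along which the base change of `f`
satisfies `P`. -/
def FlatLocally (P : MorphismProperty Scheme.{u}) (f : X ⟶ Y) : Prop :=
  ∀ y : Y, ∃ (T : Scheme.{u}) (g : T ⟶ Y), Flat g ∧ y ∈ Set.range g.base ∧ P (pullback.snd f g)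

theorem isHomeomorph_base (f : X ⟶ Y) [QuasiCompact f]
    (h : ∀ y : Y, ∃ (T : Scheme.{u}) (g : T ⟶ Y), Flat g ∧ y ∈ Set.range g.base ∧
      IsHomeomorph (pullback.snd f g).base) : IsHomeomorph f.base := by
  have hsurj : Function.Surjective f.base := fun y => by
    obtain ⟨T, g, -, ⟨t, rfl⟩, hg⟩ := h y
    obtain ⟨z, rfl⟩ := hg.surjective t
    refine ⟨(pullback.fst f g).base z, ?_⟩
    rw [← Scheme.Hom.comp_apply, pullback.condition, Scheme.Hom.comp_apply]
  have hinj : Function.Injective f.base := fun x₁ x₂ hx => by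
    obtain ⟨T, g, -, ⟨t, ht⟩, hg⟩ := h (f.base x₁)
    obtain ⟨z₁, h1, h1'⟩ := Scheme.Pullback.exists_preimage_pullback (f := f) (g := g) x₁ t ht.symm
    obtain ⟨z₂, h2, h2'⟩ := Scheme.Pullback.exists_preimage_pullback (f := f) (g := g) x₂ t (hx ▸ ht.symm)
    obtain rfl : z₁ = z₂ := hg.injective (h1'.trans h2'.symm)
    exact h1.symm.trans h2
  have hsp : SpecializingMap f.base := fun x y₀ hxy => by
    obtain ⟨T, g, hgf, ⟨t₀, rfl⟩, hg⟩ := h y₀
    obtain ⟨t, htt, ht⟩ := (Flat.generalizingMap g) hxy
    obtain ⟨z, hz, hz'⟩ := Scheme.Pullback.exists_preimage_pullback (f := f) (g := g) x t ht.symm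
    obtain ⟨z₀, hz₀⟩ := hg.surjective t₀
    have hzz : z ⤳ z₀ := by
      rw [← hg.isInducing.specializes_iff, hz₀]
      exact hz'.symm ▸ htt
    refine ⟨(pullback.fst f g).base z₀, hz ▸ hzz.map (pullback.fst f g).continuous, ?_⟩
    rw [← Scheme.Hom.comp_apply, pullback.condition, Scheme.Hom.comp_apply]
    exact congrArg g.base hz₀
  rw [isHomeomorph_iff_continuous_isClosedMap_bijective]
  exact ⟨f.continuous, (isClosedMap_iff_specializingMap f).2 hsp, hinj, hsurj⟩

set_option backward.isDefEq.respectTransparency.types false in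
theorem isIso_snd_fromSpecStalk (f : X ⟶ Y) [QuasiCompact f] (h : FlatLocally (MorphismProperty.isomorphisms _) f)
    (y : Y) : IsIso (pullback.snd f (Y.fromSpecStalk y)) := by
  obtain ⟨T, g, hgf, ⟨t, rfl⟩, hg⟩ := h y
  let a := Spec.map (g.stalkMap t)
  have : Flat a := by
    rw [HasRingHomProperty.Spec_iff (P := @Flat)]
    exact Flat.stalkMap g t
  have : Surjective a := by
    have hfl := Flat.stalkMap g t
    algebraize [(g.stalkMap t).hom]
    have : IsLocalHom (algebraMap (Y.presheaf.stalk (g.base t)) (T.presheaf.stalk t)) :=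
      inferInstanceAs (IsLocalHom (g.stalkMap t).hom)
    have : Module.FaithfullyFlat (Y.presheaf.stalk (g.base t)) (T.presheaf.stalk t) :=
      Module.FaithfullyFlat.of_flat_of_isLocalHom
    exact ⟨PrimeSpectrum.comap_surjective_of_faithfullyFlat⟩
  have key : IsIso (pullback.snd f (a ≫ Y.fromSpecStalk _)) := by
    have e : a ≫ Y.fromSpecStalk _ = T.fromSpecStalk t ≫ g := Scheme.SpecMap_stalkMap_fromSpecStalk g
    rw [e]
    have h1 : (MorphismProperty.isomorphisms Scheme.{u}) (pullback.snd (pullback.snd f g) (T.fromSpecStalk t)) :=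
      MorphismProperty.pullback_snd _ _ hg
    rw [← pullbackLeftPullbackSndIso_inv_snd_snd]
    have : IsIso (pullback.snd (pullback.snd f g) (T.fromSpecStalk t)) := h1
    infer_instance
  refine MorphismProperty.of_pullback_snd_of_descendsAlong (P := MorphismProperty.isomorphisms Scheme.{u})
    (Q := (@Surjective ⊓ @Flat ⊓ @QuasiCompact : MorphismProperty Scheme.{u})) (f := pullback.snd f (Y.fromSpecStalk _))
    (g := a) ⟨⟨inferInstance, inferInstance⟩, inferInstance⟩ ?_
  rw [MorphismProperty.isomorphisms.iff, ← pullbackLeftPullbackSndIso_hom_snd]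
  infer_instance

theorem isIso_of_flatLocally (f : X ⟶ Y) [QuasiCompact f]
    (h : FlatLocally (MorphismProperty.isomorphisms _) f) : IsIso f := by
  have hhom : IsHomeomorph f.base := isHomeomorph_base f fun y => by
    obtain ⟨T, g, hgf, hy, hg⟩ := h y
    have : IsIso (pullback.snd f g) := hg
    exact ⟨T, g, hgf, hy, (asIso (pullback.snd f g).base |> TopCat.homeoOfIso).isHomeomorph⟩
  have hstalk : ∀ x : X, IsIso (f.stalkMap x) := by
    intro x
    have := isIso_snd_fromSpecStalk f h (f.base x)
    have huniq : ∀ {S : Scheme.{u}} (a a' : S ⟶ X) (b : S ⟶ Spec (Y.presheaf.stalk (f.base x))),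
        a ≫ f = b ≫ Y.fromSpecStalk _ → a' ≫ f = b ≫ Y.fromSpecStalk _ → a = a' := fun a a' b ha ha' => by
      have : pullback.lift a b ha = pullback.lift a' b ha' := by
        rw [← cancel_mono (pullback.snd f (Y.fromSpecStalk (f.base x)))]
        exact (pullback.lift_snd _ _ _).trans (pullback.lift_snd _ _ _).symm
      exact (pullback.lift_fst a b ha).symm.trans ((congrArg (· ≫ pullback.fst _ _) this).trans (pullback.lift_fst _ _ _))
    let s := inv (pullback.snd f (Y.fromSpecStalk (f.base x))) ≫ pullback.fst _ _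
    have hs : s ≫ f = Y.fromSpecStalk _ := by
      simp [s, pullback.condition]
    have hx : s (IsLocalRing.closedPoint _) = x := hhom.injective (by
      rw [← Scheme.Hom.comp_apply, hs, Scheme.fromSpecStalk_closedPoint])
    have h2 : X.fromSpecStalk x = Spec.map (f.stalkMap x) ≫ s :=
      huniq _ _ (Spec.map (f.stalkMap x)) (Scheme.SpecMap_stalkMap_fromSpecStalk f).symm
        (by rw [Category.assoc, hs])
    let ψ : X.presheaf.stalk x ⟶ Y.presheaf.stalk (f.base x) :=
      (X.presheaf.stalkCongr (.of_eq hx)).inv ≫ Scheme.stalkClosedPointTo s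
    have hψ : Spec.map ψ ≫ X.fromSpecStalk x = s := by
      simp only [ψ, Spec.map_comp, Category.assoc]
      rw [show Spec.map (X.presheaf.stalkCongr (Inseparable.of_eq hx)).inv ≫ X.fromSpecStalk x =
        X.fromSpecStalk (s (IsLocalRing.closedPoint _)) from X.SpecMap_stalkSpecializes_fromSpecStalk (Inseparable.of_eq hx).specializes]
      exact Scheme.Spec_stalkClosedPointTo_fromSpecStalk s
    refine ⟨ψ, Spec.map_injective ?_, Spec.map_injective ?_⟩
    · rw [← cancel_mono (Y.fromSpecStalk (f.base x)), Spec.map_comp, Spec.map_id, Category.id_comp,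
        Category.assoc, Scheme.SpecMap_stalkMap_fromSpecStalk, reassoc_of% hψ, hs]
    · rw [← cancel_mono (X.fromSpecStalk x), Spec.map_comp, Spec.map_id, Category.id_comp, Category.assoc,
        hψ, ← h2]
  have : IsOpenImmersion f := IsOpenImmersion.of_isIso_stalkMap f hhom.isOpenEmbedding
  have : Surjective f := ⟨hhom.surjective⟩
  exact (isIso_iff_isOpenImmersion_and_surjective f).2 ⟨inferInstance, inferInstance⟩

end Groth.Agent.FlatLocalDesc
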